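import Cfsg.Agent.H895.RG.Pt
import Cfsg.Agent.H272.RG.FiQ
import Cfsg.Agent.H86.RG.Fam
import Cfsg.Agent.H973.RG.Tool

/-!
# S3509, row `Fi22`: the action on the transpositions and the dead rule (helper895)

`dl e p` : the transposition of the point `p` in `G`; `ac hN e : G →* Perm (Fin 3510)`;
`dead` : a cover by a commuting family fixing a point is impossible.
-/

set_option autoImplicit false
set_option maxRecDepth 1000000
set_option exponentiation.threshold 5000

namespace Cfsg.Agent.H895.RG.Fi22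

open Cfsg Cfsg.Spor Cfsg.Agent.H123.Cls Cfsg.Agent.Lib.BitNet
open Cfsg.Agent.H106.RC Cfsg.Agent.H873.RG
open Cfsg.Agent.H494.F22 (rho rho_gen rho_injective S S_val N_le_Aut)
open Cfsg.Agent.H494.F22.Row (row)
open Cfsg.Agent.Lib.BitNetSimple (force force_eq tb tb_eq)
open Cfsg.Agent.R01.Fi22Facts (T)
open Cfsg.Agent.Fischer.Fi22PtsRep (gen closure_gen)

section act

variable {G : Type} [Group G] {N : Subgroup G}

/-- the transposition of a point -/
noncomputable def dl (e : N ≃* Spor.Fi22) (p : Fin 3510) : G := (e.symm (tau p) : N)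

theorem dl_mem (e : N ≃* Spor.Fi22) (p : Fin 3510) : dl e p ∈ N := (e.symm (tau p)).2

theorem e_dl (e : N ≃* Spor.Fi22) (p : Fin 3510) (h : dl e p ∈ N) : e ⟨dl e p, h⟩ = tau p := by
  have : (⟨dl e p, h⟩ : N) = e.symm (tau p) := rfl
  rw [this, e.apply_symm_apply]

theorem dl_inj {e : N ≃* Spor.Fi22} {p q : Fin 3510} (h : dl e p = dl e q) : p = q :=
  tau_inj (e.symm.injective (Subtype.ext h))

theorem dl_sq (e : N ≃* Spor.Fi22) (p : Fin 3510) : dl e p * dl e p = 1 := by
  have h : e.symm (tau p) * e.symm (tau p) = 1 := by rw [← map_mul, tau_sq, map_one]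
  exact congrArg (fun t : N => (t : G)) h

theorem dl_inv (e : N ≃* Spor.Fi22) (p : Fin 3510) : (dl e p)⁻¹ = dl e p := inv_eq_of_mul_eq_one_left (dl_sq e p)

theorem dl_ne (e : N ≃* Spor.Fi22) (p : Fin 3510) : dl e p ≠ 1 := by
  intro h
  have h1 : e.symm (tau p) = 1 := Subtype.ext h
  exact tau_ne p (e.symm.injective (by rw [h1, map_one]))

theorem dl_cube {e : N ≃* Spor.Fi22} {p q : Fin 3510} (h : nc p q) : (dl e p * dl e q) ^ 3 = 1 := by
  have h1 : (e.symm (tau p) * e.symm (tau q)) ^ 3 = 1 := by rw [← map_mul, ← map_pow, tau_cube h, map_one]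
  exact congrArg (fun t : N => (t : G)) h1

theorem dl_comm {e : N ≃* Spor.Fi22} {p q : Fin 3510} : dl e p * dl e q = dl e q * dl e p ↔ ¬ nc p q := by
  rw [← comm_iff]
  constructor
  · intro h
    apply e.symm.injective
    rw [map_mul, map_mul]
    exact Subtype.ext h
  · intro h
    have h1 : e.symm (tau p) * e.symm (tau q) = e.symm (tau q) * e.symm (tau p) := by rw [← map_mul, ← map_mul, h]
    exact congrArg (fun t : N => (t : G)) h1

theorem exists_conj (hN : N.Normal) (e : N ≃* Spor.Fi22) (g : G) (p : Fin 3510) :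
    ∃ q, g * dl e p * g⁻¹ = dl e q := by
  have h1 : (MulAut.congr e (MulAut.conjNormal g)) (tau p) ∈ T := Cfsg.Agent.R08.AutT.aut_mem _ (tau_mem p)
  obtain ⟨q, hq⟩ := exists_pt h1
  refine ⟨q, ?_⟩
  have h2 : (MulAut.congr e (MulAut.conjNormal g)) (tau p) = e (MulAut.conjNormal g (e.symm (tau p))) := rfl
  rw [h2] at hq
  rw [dl, dl, hq, e.symm_apply_apply, MulAut.conjNormal_apply]

/-- the image of a point -/
noncomputable def fa (hN : N.Normal) (e : N ≃* Spor.Fi22) (g : G) (p : Fin 3510) : Fin 3510 := (exists_conj hN e g p).choose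

theorem fa_spec (hN : N.Normal) (e : N ≃* Spor.Fi22) (g : G) (p : Fin 3510) : g * dl e p * g⁻¹ = dl e (fa hN e g p) :=
  (exists_conj hN e g p).choose_spec

theorem fa_mul (hN : N.Normal) (e : N ≃* Spor.Fi22) (g h : G) (p : Fin 3510) :
    fa hN e (g * h) p = fa hN e g (fa hN e h p) := by
  apply dl_inj (e := e)
  rw [← fa_spec, ← fa_spec, ← fa_spec]
  group

theorem fa_one (hN : N.Normal) (e : N ≃* Spor.Fi22) (p : Fin 3510) : fa hN e 1 p = p := by
  apply dl_inj (e := e)
  rw [← fa_spec]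
  group

/-- the action on the points -/
noncomputable def ac (hN : N.Normal) (e : N ≃* Spor.Fi22) : G →* Equiv.Perm (Fin 3510) where
  toFun g := ⟨fa hN e g, fa hN e g⁻¹, fun p => by rw [← fa_mul, inv_mul_cancel, fa_one],
    fun p => by rw [← fa_mul, mul_inv_cancel, fa_one]⟩
  map_one' := Equiv.ext fun p => fa_one hN e p
  map_mul' g h := Equiv.ext fun p => fa_mul hN e g h p

theorem ac_spec (hN : N.Normal) (e : N ≃* Spor.Fi22) (g : G) (p : Fin 3510) : g * dl e p * g⁻¹ = dl e (ac hN e g p) :=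
  fa_spec hN e g p

theorem ac_fix {hN : N.Normal} {e : N ≃* Spor.Fi22} {g : G} {p : Fin 3510} :
    ac hN e g p = p ↔ g * dl e p = dl e p * g := by
  constructor
  · intro h
    have h1 := ac_spec hN e g p
    rwa [h, mul_inv_eq_iff_eq_mul] at h1
  · intro h
    apply dl_inj (e := e)
    rw [← ac_spec hN, h, mul_inv_cancel_right]

/-- the elements of `N` act as in the model -/
theorem ac_mem (hN : N.Normal) (e : N ≃* Spor.Fi22) {n : G} (hn : n ∈ N) : ac hN e n = rho (e ⟨n, hn⟩) := by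
  ext p
  congr 1
  apply dl_inj (e := e)
  rw [← ac_spec hN]
  have h := tau_conj (e ⟨n, hn⟩) p
  have h1 : (⟨n, hn⟩ : N) * e.symm (tau p) * (⟨n, hn⟩ : N)⁻¹ = e.symm (tau (rho (e ⟨n, hn⟩) p)) := by
    rw [← h, map_mul, map_mul, map_inv, e.symm_apply_apply]
  exact congrArg (fun t : N => (t : G)) h1

theorem ac_dl (hN : N.Normal) (e : N ≃* Spor.Fi22) (p : Fin 3510) : ac hN e (dl e p) = rho (tau p) := by
  rw [ac_mem hN e (dl_mem e p), e_dl]

theorem ac_nc (hN : N.Normal) (e : N ≃* Spor.Fi22) (g : G) (p q : Fin 3510) :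
    nc (ac hN e g p) (ac hN e g q) ↔ nc p q := by
  rw [← not_iff_not, ← dl_comm (e := e), ← dl_comm (e := e), ← ac_spec, ← ac_spec]
  constructor
  · intro h
    have h1 : g⁻¹ * (g * dl e p * g⁻¹ * (g * dl e q * g⁻¹)) * g = g⁻¹ * (g * dl e q * g⁻¹ * (g * dl e p * g⁻¹)) * g := by
      rw [h]
    have e1 : g⁻¹ * (g * dl e p * g⁻¹ * (g * dl e q * g⁻¹)) * g = dl e p * dl e q := by group
    have e2 : g⁻¹ * (g * dl e q * g⁻¹ * (g * dl e p * g⁻¹)) * g = dl e q * dl e p := by group
    rwa [e1, e2] at h1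
  · intro h
    have e1 : g * dl e p * g⁻¹ * (g * dl e q * g⁻¹) = g * (dl e p * dl e q) * g⁻¹ := by group
    have e2 : g * dl e q * g⁻¹ * (g * dl e p * g⁻¹) = g * (dl e q * dl e p) * g⁻¹ := by group
    rw [e1, e2, h]

theorem ac_Aut (hN : N.Normal) (e : N ≃* Spor.Fi22) (g : G) : ac hN e g ∈ Aut 3510 row := by
  intro p q
  have h := ac_nc hN e g p q
  rw [nc, nc] at h
  rw [Bool.eq_iff_iff]
  exact h

theorem dl_gen (e : N ≃* Spor.Fi22) (x : Spor.Fi22.Gen) : ∃ p, dl e p = (e.symm (gen x) : N) := by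
  obtain ⟨p, hp⟩ := exists_pt (Cfsg.Agent.R01.Fi22Facts.gen_mem x)
  exact ⟨p, by rw [dl, hp]⟩

/-- an element commuting with the generators is trivial -/
theorem eq_one_of_gen {e : N ≃* Spor.Fi22} (hc : Subgroup.centralizer (N : Set G) = ⊥) {x : G}
    (h : ∀ s : Spor.Fi22.Gen, x * (e.symm (gen s) : N) = (e.symm (gen s) : N) * x) : x = 1 := by
  have h1 : x ∈ Subgroup.centralizer (N : Set G) := by
    rw [Subgroup.mem_centralizer_iff]
    intro n hn
    let K : Subgroup Spor.Fi22 := (Subgroup.centralizer ({x} : Set G)).comap (N.subtype.comp e.symm.toMonoidHom)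
    have hK : K = ⊤ := by
      rw [eq_top_iff, ← closure_gen, Subgroup.closure_le]
      rintro _ ⟨s, rfl⟩
      show ((e.symm (gen s) : N) : G) ∈ Subgroup.centralizer ({x} : Set G)
      rw [Subgroup.mem_centralizer_singleton_iff]
      exact (h s).symm
    have h2 : e ⟨n, hn⟩ ∈ K := by rw [hK]; trivial
    have h3 : ((e.symm (e ⟨n, hn⟩) : N) : G) ∈ Subgroup.centralizer ({x} : Set G) := h2
    rw [e.symm_apply_apply, Subgroup.mem_centralizer_singleton_iff] at h3
    exact h3
  rw [hc] at h1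
  exact Subgroup.mem_bot.1 h1

/-! ### the centralizer of the centralizer of a transposition -/

/-- the complement of the row of `0` -/
noncomputable def M0 : ℕ := Nat.land (Nat.sub (Nat.pow 2 3510) 1) (Nat.xor (Nat.sub (Nat.pow 2 3510) 1) (row 0))

noncomputable def chkC : Bool :=
  force M0 fun m => force (Nat.land (row 14) m) fun r => force (lk 12 (nth FiDat.gens 0) 14) fun a =>
    allN (fun q => or (Nat.beq q 14) (or (Nat.beq q a) (not (Nat.beq (Nat.land (row q) m) r)))) 3510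

theorem chkC_eq : chkC = true := by decide +kernel

theorem M0_bit (i : ℕ) : M0.testBit i = (decide (i < 3510) && !(row 0).testBit i) := by
  show ((2 ^ 3510 - 1) &&& ((2 ^ 3510 - 1) ^^^ row 0)).testBit i = _
  rw [Nat.testBit_and, Nat.testBit_xor, Nat.testBit_two_pow_sub_one]
  by_cases h : i < 3510 <;> simp [h]

/-- the points with the same relation to the points commuting with `P0` -/
theorem eq_of_chkC {q : Fin 3510} (h : ∀ s : Fin 3510, ¬ nc P0 s → (nc q s ↔ nc P1 s)) :
    q = P1 ∨ q = rho (gen .a) P1 := by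
  have h1 := chkC_eq
  unfold chkC at h1
  rw [force_eq, force_eq, force_eq] at h1
  have h2 := (allN_iff _ _).1 h1 q q.2
  have h3 : Nat.land (row q) M0 = Nat.land (row 14) M0 := by
    apply Nat.eq_of_testBit_eq
    intro i
    show (row q &&& M0).testBit i = (row 14 &&& M0).testBit i
    rw [Nat.testBit_and, Nat.testBit_and, M0_bit]
    by_cases hi : i < 3510
    · by_cases h0 : (row 0).testBit i = true
      · rw [h0]; simp
      · have h4 := h ⟨i, hi⟩ h0
        have h5 : (row q).testBit i = (row 14).testBit i := Bool.eq_iff_iff.2 h4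
        rw [h5]
    · simp [hi]
  rw [h3, Nat.beq_refl, Bool.not_true, Bool.or_false, Bool.or_eq_true, Nat.beq_eq, Nat.beq_eq] at h2
  rcases h2 with h2 | h2
  · left
    exact Fin.ext h2
  · right
    refine Fin.ext ?_
    rw [h2]
    exact (FiDat.gn_tab (x := 0) (by norm_num) P1).symm

theorem comm_a : ∀ s : Spor.Fi22.Gen, s ≠ .b → gen .a * gen s = gen s * gen .a := by
  intro s hs
  cases s
  · rfl
  · exact absurd rfl hs
  all_goals exact Cfsg.Agent.Fischer.Fi22PtsRep.gen_comm (by decide)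

theorem cent_P0 {hN : N.Normal} {e : N ≃* Spor.Fi22} (hc : Subgroup.centralizer (N : Set G) = ⊥) {x : G}
    (h : ∀ n ∈ N, n * dl e P0 = dl e P0 * n → x * n = n * x) : x = 1 ∨ x = dl e P0 := by
  have ha : tau P0 = gen .a := tau_of_rel (Cfsg.Agent.R01.Fi22Facts.gen_mem .a) rel0
  have hb : tau P1 = gen .b := tau_of_rel (Cfsg.Agent.R01.Fi22Facts.gen_mem .b) rel1
  -- `x` fixes the points commuting with `P0`
  have hfix : ∀ y : G, (∀ n ∈ N, n * dl e P0 = dl e P0 * n → y * n = n * y) → ac hN e y P1 = P1 → y = 1 := by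
    intro y hy hy1
    refine eq_one_of_gen (e := e) hc fun s => ?_
    by_cases hs : s = .b
    · rw [hs, ← hb]
      exact ac_fix.1 hy1
    · refine hy _ (e.symm (gen s)).2 ?_
      rw [dl, ha]
      have h1 : e.symm (gen s) * e.symm (gen .a) = e.symm (gen .a) * e.symm (gen s) := by
        rw [← map_mul, ← map_mul, comm_a s hs]
      exact congrArg (fun t : N => (t : G)) h1
  have h1 : ∀ s : Fin 3510, ¬ nc P0 s → ac hN e x s = s := fun s hs => by
    refine ac_fix.2 (h _ (dl_mem e s) ?_)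
    exact (dl_comm.2 hs).symm
  have h2 : ∀ s : Fin 3510, ¬ nc P0 s → (nc (ac hN e x P1) s ↔ nc P1 s) := fun s hs => by
    have h3 := ac_nc hN e x P1 s
    rwa [h1 s hs] at h3
  rcases eq_of_chkC h2 with h3 | h3
  · exact Or.inl (hfix x h h3)
  · right
    have h4 : dl e P0 * x = 1 := by
      refine hfix _ (fun n hn hn0 => ?_) ?_
      · rw [mul_assoc, h n hn hn0, ← mul_assoc, ← hn0, mul_assoc]
      · rw [map_mul, Equiv.Perm.mul_apply, h3, ac_dl, ha, ← Equiv.Perm.mul_apply, ← map_mul, ← ha, tau_sq, map_one]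
        rfl
    rw [← dl_inv]
    exact (inv_eq_of_mul_eq_one_right h4).symm

theorem cent_pt {hN : N.Normal} {e : N ≃* Spor.Fi22} (hc : Subgroup.centralizer (N : Set G) = ⊥) {x : G} {p : Fin 3510}
    (h : ∀ n ∈ N, n * dl e p = dl e p * n → x * n = n * x) : x = 1 ∨ x = dl e p := by
  obtain ⟨m, hm⟩ := trans_pt P0 p
  set k : G := ((e.symm m : N) : G) with hk
  have hkN : k ∈ N := (e.symm m).2
  have h1 : k * dl e P0 * k⁻¹ = dl e p := by
    rw [ac_spec hN, ac_mem hN e hkN]
    have : e ⟨k, hkN⟩ = m := by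
      have : (⟨k, hkN⟩ : N) = e.symm m := rfl
      rw [this, e.apply_symm_apply]
    rw [this, hm]
  have h2 := cent_P0 (hN := hN) (e := e) hc (x := k⁻¹ * x * k) fun n hn hn0 => by
    have h3 := h (k * n * k⁻¹) (N.mul_mem (N.mul_mem hkN hn) (N.inv_mem hkN)) (by
      rw [← h1]
      calc k * n * k⁻¹ * (k * dl e P0 * k⁻¹) = k * (n * dl e P0) * k⁻¹ := by group
        _ = k * (dl e P0 * n) * k⁻¹ := by rw [hn0]
        _ = _ := by group)
    calc k⁻¹ * x * k * n = k⁻¹ * (x * (k * n * k⁻¹)) * k := by group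
      _ = k⁻¹ * (k * n * k⁻¹ * x) * k := by rw [h3]
      _ = _ := by group
  rcases h2 with h2 | h2
  · left
    calc x = k * (k⁻¹ * x * k) * k⁻¹ := by group
      _ = 1 := by rw [h2]; group
  · right
    calc x = k * (k⁻¹ * x * k) * k⁻¹ := by group
      _ = dl e p := by rw [h2, h1]

end act

/-- **the dead rule** -/
theorem dead {G Ω ι : Type} [Group G] [Finite G] [Nonempty Ω] [MulAction G Ω] [Finite ι] {N : Subgroup G}
    (hE : Env G Ω N) (hN : N.Normal) (e : N ≃* Spor.Fi22) (hIH : IHx (Nat.card Spor.Fi22)) {x : ι → G} {r : ι → ℕ}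
    (hx : PF x r) (hc : Cov Ω x) {p : Fin 3510} (hp : ∀ i, ac hN e (x i) p = p) : False := by
  have hd : e ⟨dl e p, dl_mem e p⟩ ∈ T := by rw [e_dl]; exact tau_mem p
  obtain ⟨a1, a2, a3, a4, a5, a6, a7, -⟩ := Cfsg.Agent.H272.RG.Fi22.Q2 hN e ⟨dl e p, dl_mem e p⟩ hd
  have hall : ∀ ω : Ω, dl e p • ω = ω := by
    intro ω
    rcases Cfsg.Agent.H86.RG.mruleQ hIH e a1 a2 a3 a4 hx hc (fun i => a7 _ (ac_fix.1 (hp i))) ω with h | ⟨j, hj, hjω⟩
    · exact h a5
    · rcases cent_pt (hN := hN) (e := e) hE.cent (x := x j) (p := p) (fun n hn hn0 => hj _ (a6 n hn hn0)) with h1 | h1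
      · exact absurd h1 (hx.ne j)
      · rwa [h1] at hjω
  exact dl_ne e p (hE.single hall)

end Cfsg.Agent.H895.RG.Fi22
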