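import Cfsg.Agent.H895.RG.Act

/-!
# S3509, row `Fi22`: replacement rules for covers by two and three elements (helper895)

* `dead2` : a cover by two commuting elements fixing a point;
* `RP` : for two noncommuting fixed transpositions there is a third one commuting with the first one only;
* `kill_pair` : a cover by `h`, `w`, where `h` has the property `RP`;
* `kill_three` : a cover by `z`, `x`, `y` where `z` has order `2`, `x` order `3`, with a special configuration.
-/

set_option autoImplicit false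
set_option linter.unusedSectionVars false

namespace Cfsg.Agent.H895.RG.Fi22

open Cfsg Cfsg.Spor Cfsg.Agent.H106.RC Cfsg.Agent.H873.RG
open Cfsg.Agent.H494.F22 (rho)

/-- for two noncommuting fixed transpositions there is a third one commuting with the first one only -/
def RP (σ : Equiv.Perm (Fin 3510)) : Prop :=
  ∀ p q : Fin 3510, σ p = p → σ q = q → nc p q → ∃ s, σ s = s ∧ s ≠ p ∧ ¬ nc p s ∧ nc q s

section

variable {G Ω : Type} [Group G] [Finite G] [Nonempty Ω] [MulAction G Ω] {N : Subgroup G}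

theorem dead2 (hE : Env G Ω N) (hN : N.Normal) (e : N ≃* Spor.Fi22) (hIH : IHx (Nat.card Spor.Fi22)) {y h : G} {a b : ℕ}
    (ha : a.Prime) (hb : b.Prime) (hab : a ≠ b) (hy : y ^ a = 1) (hy1 : y ≠ 1) (hh : h ^ b = 1) (hh1 : h ≠ 1)
    (hyh : y * h = h * y) (hc : ∀ ω : Ω, h • ω = ω ∨ y • ω = ω) {p : Fin 3510} (hyp : ac hN e y p = p)
    (hhp : ac hN e h p = p) : False := by
  let x : Bool → G := fun i => cond i y h
  let r : Bool → ℕ := fun i => cond i a b
  have hx : PF x r := by
    refine ⟨fun i => ?_, fun i j hij => ?_, fun i => ?_, fun i => ?_, fun i j => ?_⟩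
    · cases i
      · exact hb
      · exact ha
    · cases i <;> cases j
      · rfl
      · exact absurd (show b = a from hij).symm hab
      · exact absurd (show a = b from hij) hab
      · rfl
    · cases i
      · exact hh
      · exact hy
    · cases i
      · exact hh1
      · exact hy1
    · cases i <;> cases j
      · rfl
      · exact hyh.symm
      · exact hyh
      · rfl
  refine dead hE hN e hIH hx (fun ω => ?_) (p := p) (fun i => ?_)
  · rcases hc ω with h | h
    · exact ⟨false, h⟩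
    · exact ⟨true, h⟩
  · cases i
    · exact hhp
    · exact hyp

/-- the normal closure of `w` under the centralizer of `h` -/
def KK (h w : G) : Subgroup G := Subgroup.closure {z | ∃ c : G, c * h = h * c ∧ z = c * w * c⁻¹}

omit [Finite G] in
theorem KK_self (h w : G) : w ∈ KK h w := Subgroup.subset_closure ⟨1, by simp, by simp⟩

omit [Finite G] in
theorem KK_conj {h w c y : G} (hc : c * h = h * c) (hy : y ∈ KK h w) : c * y * c⁻¹ ∈ KK h w := by
  unfold KK at hy
  refine Subgroup.closure_induction (p := fun y _ => c * y * c⁻¹ ∈ KK h w) ?_ ?_ ?_ ?_ hy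
  · rintro _ ⟨d, hd, rfl⟩
    refine Subgroup.subset_closure ⟨c * d, ?_, by group⟩
    rw [mul_assoc, hd, ← mul_assoc, hc, mul_assoc]
  · rw [mul_one, mul_inv_cancel]; exact one_mem _
  · intro a b _ _ ha hb
    have : c * (a * b) * c⁻¹ = (c * a * c⁻¹) * (c * b * c⁻¹) := by group
    rw [this]
    exact mul_mem ha hb
  · intro a _ ha
    have : c * a⁻¹ * c⁻¹ = (c * a * c⁻¹)⁻¹ := by group
    rw [this]
    exact inv_mem ha

/-- the product of a transposition and its conjugate -/
theorem KK_pair {hN : N.Normal} {e : N ≃* Spor.Fi22} {h w : G} {p : Fin 3510} (hp : ac hN e h p = p) :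
    dl e p * dl e (ac hN e w p) ∈ KK h w := by
  have h1 : dl e p * w * (dl e p)⁻¹ ∈ KK h w := KK_conj (ac_fix.1 hp).symm (KK_self h w)
  have h2 := mul_mem h1 (inv_mem (KK_self h w))
  have h3 : dl e p * w * (dl e p)⁻¹ * w⁻¹ = dl e p * dl e (ac hN e w p) := by
    calc dl e p * w * (dl e p)⁻¹ * w⁻¹ = dl e p * (w * dl e p * w⁻¹)⁻¹ := by group
      _ = dl e p * dl e (ac hN e w p) := by rw [ac_spec hN, dl_inv]
  rwa [h3] at h2

theorem comm_ac {hN : N.Normal} {e : N ≃* Spor.Fi22} {a b : G} (h : a * b = b * a) (p : Fin 3510) :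
    ac hN e a (ac hN e b p) = ac hN e b (ac hN e a p) := by
  rw [← Equiv.Perm.mul_apply, ← Equiv.Perm.mul_apply, ← map_mul, ← map_mul, h]

/-- products of two commuting transpositions -/
theorem prod_sq {e : N ≃* Spor.Fi22} {p q : Fin 3510} (h : ¬ nc p q) : (dl e p * dl e q) ^ 2 = 1 := by
  have h1 : dl e p * dl e q = dl e q * dl e p := dl_comm.2 h
  calc (dl e p * dl e q) ^ 2 = dl e p * (dl e q * dl e p) * dl e q := by rw [pow_two]; group
    _ = dl e p * (dl e p * dl e q) * dl e q := by rw [h1]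
    _ = (dl e p * dl e p) * (dl e q * dl e q) := by group
    _ = 1 := by rw [dl_sq, dl_sq, one_mul]

theorem prod_ne {e : N ≃* Spor.Fi22} {p q : Fin 3510} (h : p ≠ q) : dl e p * dl e q ≠ 1 := by
  intro h1
  apply h
  have h2 := eq_inv_of_mul_eq_one_left h1
  rw [dl_inv] at h2
  exact dl_inj h2

/-- the pair rule when `h` and a product of two commuting transpositions in the normal closure commute with `dl e p` -/
theorem dead_inv (hE : Env G Ω N) (hN : N.Normal) (e : N ≃* Spor.Fi22) (hIH : IHx (Nat.card Spor.Fi22)) {h w : G} {b : ℕ}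
    (hb : b.Prime) (hb2 : b ≠ 2) (hh : h ^ b = 1) (hh1 : h ≠ 1) (hc : ∀ ω : Ω, h • ω = ω ∨ w • ω = ω)
    {p q : Fin 3510} (hp : ac hN e h p = p) (hq : ac hN e h q = q) (hpq : p ≠ q) (hn : ¬ nc p q)
    (hK : dl e p * dl e q ∈ KK h w) : False := by
  have h1 : dl e p * dl e q = dl e q * dl e p := dl_comm.2 hn
  refine dead2 hE hN e hIH Nat.prime_two hb hb2.symm (prod_sq hn) (prod_ne hpq) hh hh1 ?_
    (Cfsg.Agent.H867.RC.pair_mv hc hK) (p := p) ?_ hp
  · rw [mul_assoc, ← ac_fix.1 hq, ← mul_assoc, ← ac_fix.1 hp, mul_assoc]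
  · rw [ac_fix, mul_assoc, ← h1]

/-- **the pair rule** -/
theorem kill_pair (hE : Env G Ω N) (hN : N.Normal) (e : N ≃* Spor.Fi22) (hIH : IHx (Nat.card Spor.Fi22)) {h w : G}
    {a b : ℕ} (ha : a.Prime) (hb : b.Prime) (hab : a ≠ b) (hb2 : b ≠ 2) (hw : w ^ a = 1) (hw1 : w ≠ 1) (hh : h ^ b = 1)
    (hh1 : h ≠ 1) (hwh : w * h = h * w) (hc : ∀ ω : Ω, h • ω = ω ∨ w • ω = ω) (hR : RP (ac hN e h)) {p : Fin 3510}
    (hp : ac hN e h p = p) : False := by
  by_cases hwp : ac hN e w p = p
  · exact dead2 hE hN e hIH ha hb hab hw hw1 hh hh1 hwh hc hwp hp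
  set q := ac hN e w p with hq
  have hhq : ac hN e h q = q := by rw [hq, comm_ac hwh.symm, hp]
  have hK : dl e p * dl e q ∈ KK h w := KK_pair hp
  by_cases hn : nc p q
  swap
  · exact dead_inv hE hN e hIH hb hb2 hh hh1 hc hp hhq (fun h' => hwp h'.symm) hn hK
  obtain ⟨s, hs, hsp, hs1, hs2⟩ := hR p q hp hhq hn
  refine dead_inv hE hN e hIH hb hb2 hh hh1 hc hp hs hsp.symm hs1 ?_
  -- `d = dl p`, `f = dl q`, `t = dl s`
  have h1 : dl e s * (dl e p * dl e q) * (dl e s)⁻¹ ∈ KK h w := KK_conj (ac_fix.1 hs).symm hK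
  have h2 := mul_mem (inv_mem hK) h1
  have c1 : dl e s * dl e p = dl e p * dl e s := (dl_comm.2 hs1).symm
  have e3 : (dl e p * dl e q)⁻¹ * (dl e s * (dl e p * dl e q) * (dl e s)⁻¹) = dl e s * dl e q := by
    have h3 := dl_cube (e := e) hs2
    have h4 : dl e q * dl e s * (dl e q * dl e s) = dl e s * dl e q := by
      have h5 : dl e q * dl e s * (dl e q * dl e s) * (dl e q * dl e s) = 1 := by
        rw [← h3, pow_succ, pow_two]
      have h6 := eq_inv_of_mul_eq_one_left h5
      rw [h6, mul_inv_rev, dl_inv, dl_inv]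
    calc (dl e p * dl e q)⁻¹ * (dl e s * (dl e p * dl e q) * (dl e s)⁻¹) =
        (dl e q)⁻¹ * (dl e p)⁻¹ * (dl e s * dl e p) * dl e q * (dl e s)⁻¹ := by group
      _ = (dl e q)⁻¹ * (dl e p)⁻¹ * (dl e p * dl e s) * dl e q * (dl e s)⁻¹ := by rw [c1]
      _ = (dl e q)⁻¹ * dl e s * dl e q * (dl e s)⁻¹ := by group
      _ = dl e q * dl e s * (dl e q * dl e s) := by rw [dl_inv, dl_inv]; group
      _ = dl e s * dl e q := h4
  rw [e3] at h2
  have h5 := mul_mem hK (inv_mem h2)
  have e5 : dl e p * dl e q * (dl e s * dl e q)⁻¹ = dl e p * dl e s := by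
    rw [mul_inv_rev, dl_inv, dl_inv]
    calc dl e p * dl e q * (dl e q * dl e s) = dl e p * (dl e q * dl e q) * dl e s := by group
      _ = dl e p * dl e s := by rw [dl_sq, mul_one]
  rwa [e5] at h5

omit [Finite G] [Nonempty Ω] in
/-- replacement in a cover by three elements -/
theorem mv3 {a b x c : G} (hc : ∀ ω : Ω, a • ω = ω ∨ b • ω = ω ∨ x • ω = ω) (ha : c * a = a * c) (hb : c * b = b * c) :
    ∀ ω : Ω, a • ω = ω ∨ b • ω = ω ∨ (c * x * c⁻¹ * x⁻¹) • ω = ω := by
  intro ω
  by_cases h1 : a • ω = ω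
  · exact Or.inl h1
  by_cases h2 : b • ω = ω
  · exact Or.inr (Or.inl h2)
  refine Or.inr (Or.inr ?_)
  have key : ∀ y : G, c * y = y * c → y • ω ≠ ω → y • c⁻¹ • ω ≠ c⁻¹ • ω := by
    intro y hy h3 h4
    apply h3
    have h5 : c • y • c⁻¹ • ω = ω := by rw [h4, smul_inv_smul]
    rwa [smul_smul, hy, mul_smul, smul_inv_smul] at h5
  have h3 : x • ω = ω := by
    rcases hc ω with h | h | h
    · exact absurd h h1
    · exact absurd h h2
    · exact h
  have h4 : x • c⁻¹ • ω = c⁻¹ • ω := by
    rcases hc (c⁻¹ • ω) with h | h | h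
    · exact absurd h (key a ha h1)
    · exact absurd h (key b hb h2)
    · exact h
  have h5 : x⁻¹ • ω = ω := by rw [inv_smul_eq_iff, h3]
  rw [mul_smul, h5, mul_smul, mul_smul, h4, smul_inv_smul]

/-- **the rule for three elements** -/
theorem kill_three (hE : Env G Ω N) (hN : N.Normal) (e : N ≃* Spor.Fi22) (hIH : IHx (Nat.card Spor.Fi22)) {z x y : G}
    (hz : z * z = 1) (hx : x ^ 3 = 1) (hx1 : x ≠ 1) (hzx : z * x = x * z) (hzy : z * y = y * z) (hxy : x * y = y * x)
    (hc : ∀ ω : Ω, z • ω = ω ∨ x • ω = ω ∨ y • ω = ω) {p p' s s' t : Fin 3510} (hp : ac hN e x p = p)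
    (hp' : ac hN e z p = p') (hs : ac hN e y p = s) (hs' : ac hN e z s = s') (n1 : ¬ nc p p') (n2 : ¬ nc p s)
    (n3 : ¬ nc p s') (t1 : nc p t) (t2 : nc p' t) (t3 : ¬ nc s t) (t4 : ¬ nc s' t) (hne : p ≠ p') : False := by
  have hzz : ∀ v, ac hN e z (ac hN e z v) = v := fun v => by
    rw [← Equiv.Perm.mul_apply, ← map_mul, hz, map_one, Equiv.Perm.one_apply]
  have hzp' : ac hN e z p' = p := by rw [← hp', hzz]
  have hzs' : ac hN e z s' = s := by rw [← hs', hzz]
  have hyp' : ac hN e y p' = s' := by rw [← hp', comm_ac hzy.symm, hs, hs']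
  have hxp' : ac hN e x p' = p' := by rw [← hp', comm_ac hzx.symm, hp]
  have hxs : ac hN e x s = s := by rw [← hs, comm_ac hxy, hp]
  have hxs' : ac hN e x s' = s' := by rw [← hs', comm_ac hzx.symm, hxs]
  have n4 : ¬ nc p' s' := by rw [← hp', ← hs', ac_nc]; exact n2
  have n5 : ¬ nc p' s := by
    rw [← hp', show s = ac hN e z s' from hzs'.symm, ac_nc]; exact n3
  have n6 : ¬ nc s s' := by rw [← hs, ← hyp', ac_nc]; exact n1
  set d := dl e p with hd
  set d' := dl e p' with hd'
  set E := dl e s with hE0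
  set E' := dl e s' with hE'
  have c1 : d * d' = d' * d := dl_comm.2 n1
  have c2 : d * E = E * d := dl_comm.2 n2
  have c3 : d * E' = E' * d := dl_comm.2 n3
  have c4 : d' * E' = E' * d' := dl_comm.2 n4
  have c5 : d' * E = E * d' := dl_comm.2 n5
  have c6 : E * E' = E' * E := dl_comm.2 n6
  have q1 : d * d = 1 := dl_sq e p
  have q2 : d' * d' = 1 := dl_sq e p'
  have q3 : E * E = 1 := dl_sq e s
  have q4 : E' * E' = 1 := dl_sq e s'
  have i1 : d⁻¹ = d := dl_inv e p
  have i2 : d'⁻¹ = d' := dl_inv e p'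
  have i3 : E⁻¹ = E := dl_inv e s
  have i4 : E'⁻¹ = E' := dl_inv e s'
  have zd : z * d * z⁻¹ = d' := by rw [hd, ac_spec hN, hp']
  have zd' : z * d' * z⁻¹ = d := by rw [hd', ac_spec hN, hzp']
  have zE : z * E * z⁻¹ = E' := by rw [hE0, ac_spec hN, hs']
  have yd : y * d * y⁻¹ = E := by rw [hd, ac_spec hN, hs]
  have yd' : y * d' * y⁻¹ = E' := by rw [hd', ac_spec hN, hyp']
  have xd : d * x = x * d := (ac_fix.1 hp).symm
  have xd' : d' * x = x * d' := (ac_fix.1 hxp').symm
  have xE : E * x = x * E := (ac_fix.1 hxs).symm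
  have xE' : E' * x = x * E' := (ac_fix.1 hxs').symm
  -- `w = d d' E E'`
  have C : ∀ {a b : G}, a * b = b * a → Commute a b := fun h => h
  set w := d * d' * (E * E') with hw
  -- first replacement
  have hc1 := mv3 hc (c := d * d') (by
    have h1 : z * (d * d') * z⁻¹ = d * d' := by
      calc z * (d * d') * z⁻¹ = (z * d * z⁻¹) * (z * d' * z⁻¹) := by group
        _ = d * d' := by rw [zd, zd', c1]
    rw [mul_inv_eq_iff_eq_mul] at h1
    exact h1.symm) ((C xd).mul_left (C xd')).eq
  have e1 : d * d' * y * (d * d')⁻¹ * y⁻¹ = w := by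
    calc d * d' * y * (d * d')⁻¹ * y⁻¹ = d * d' * ((y * d * y⁻¹) * (y * d' * y⁻¹))⁻¹ := by group
      _ = w := by rw [yd, yd', mul_inv_rev, i3, i4, ← c6]
  rw [e1] at hc1
  -- second replacement
  have wd : d * w = w * d :=
    (((C (show d * d = d * d from rfl)).mul_right (C c1)).mul_right ((C c2).mul_right (C c3))).eq
  have wE : E * w = w * E :=
    (((C c2.symm).mul_right (C c5.symm)).mul_right ((C (show E * E = E * E from rfl)).mul_right (C c6))).eq
  have hc2 := mv3 (a := x) (b := w) (x := z) (c := d * E) (fun ω => by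
    rcases hc1 ω with h | h | h
    · exact Or.inr (Or.inr h)
    · exact Or.inl h
    · exact Or.inr (Or.inl h)) ((C xd).mul_left (C xE)).eq ((C wd).mul_left (C wE)).eq
  have e2 : d * E * z * (d * E)⁻¹ * z⁻¹ = w := by
    calc d * E * z * (d * E)⁻¹ * z⁻¹ = d * E * ((z * d * z⁻¹) * (z * E * z⁻¹))⁻¹ := by group
      _ = d * E * (E' * d') := by rw [zd, zE, mul_inv_rev, i2, i4]
      _ = d * (E * (E' * d')) := by group
      _ = d * (E * (d' * E')) := by rw [c4]
      _ = d * (E * d') * E' := by group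
      _ = d * (d' * E) * E' := by rw [c5]
      _ = w := by rw [hw]; group
  rw [e2] at hc2
  -- `w` is an involution
  have hw2 : w ^ 2 = 1 := by
    have h1 : (d * d') ^ 2 = 1 := prod_sq n1
    have h2 : (E * E') ^ 2 = 1 := prod_sq n6
    have h3 : Commute (d * d') (E * E') :=
      ((C c2).mul_right (C c3)).mul_left ((C c5).mul_right (C c4))
    rw [hw, h3.mul_pow, h1, h2, one_mul]
  have hw1 : w ≠ 1 := by
    intro h1
    set R := dl e t with hR
    have r1 : E * R = R * E := dl_comm.2 t3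
    have r2 : E' * R = R * E' := dl_comm.2 t4
    have h2 : d * d' = E * E' := by
      have h3 := eq_inv_of_mul_eq_one_left (show d * d' * (E * E') = 1 from h1)
      rw [h3, mul_inv_rev, i3, i4, c6]
    have h3 : d * d' * R = R * (d * d') := by
      rw [h2]
      exact ((C r1).mul_left (C r2)).eq
    -- `d' R d' = d R d`
    have h4 : d' * R * d' = d * R * d := by
      calc d' * R * d' = (d * d) * d' * R * d' := by rw [q1, one_mul]
        _ = d * (d * d' * R) * d' := by group
        _ = d * (R * (d * d')) * d' := by rw [h3]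
        _ = d * R * d * (d' * d') := by group
        _ = d * R * d := by rw [q2, mul_one]
    have R2 : R * R = 1 := dl_sq e t
    have braid : ∀ {v : Fin 3510}, nc v t → dl e v * R * dl e v = R * dl e v * R := by
      intro v hv
      have h5 := dl_cube (e := e) hv
      have h6 : dl e v * R * dl e v * (R * dl e v * R) = 1 := by rw [← h5, pow_succ, pow_two, hR]; group
      have h7 := eq_inv_of_mul_eq_one_left h6
      rw [h7, mul_inv_rev, mul_inv_rev, hR, dl_inv, dl_inv, mul_assoc]
    rw [braid t2, braid t1] at h4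
    have h5 : dl e p' = dl e p := by
      have h6 : R * (R * dl e p' * R) * R = R * (R * dl e p * R) * R := by rw [h4]
      have h7 : ∀ v, R * (R * v * R) * R = v := fun v => by
        calc R * (R * v * R) * R = (R * R) * v * (R * R) := by group
          _ = v := by rw [R2, one_mul, mul_one]
      rwa [h7, h7] at h6
    exact hne (dl_inj h5).symm
  refine dead2 hE hN e hIH Nat.prime_two Nat.prime_three (by norm_num) hw2 hw1 hx hx1 ?_ (fun ω => ?_) (p := p) ?_ hp
  · exact (((C xd).mul_left (C xd')).mul_left ((C xE).mul_left (C xE'))).eq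
  · rcases hc2 ω with h | h | h
    · exact Or.inl h
    · exact Or.inr h
    · exact Or.inr h
  · rw [ac_fix]
    exact wd.symm

end

end Cfsg.Agent.H895.RG.Fi22
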