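import Cfsg.Agent.H123.Cls.FiOre
import Cfsg.Agent.R08.AutT

/-!
# S3509, row `Fi22`: the 3510 points are the transpositions (helper895)

`tau p` : the transposition of the point `p`; `pt_smul` : `m (tau p) m⁻¹ = tau (rho m p)`; `nc p q` : the transpositions of `p`
and `q` do not commute.
-/

set_option autoImplicit false
set_option maxRecDepth 1000000
set_option exponentiation.threshold 5000

namespace Cfsg.Agent.H895.RG.Fi22

open Cfsg Cfsg.Spor Cfsg.Agent.H123.Cls Cfsg.Agent.Lib.BitNet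
open Cfsg.Agent.H494.F22 (rho rho_gen rho_injective S S_val N N_le_Aut)
open Cfsg.Agent.H494.F22.Row (row)
open Cfsg.Agent.Lib.BitNetSimple (force force_eq tb tb_eq)
open Cfsg.Agent.R01.Fi22Facts (T ncard_T trans_commuting trans_noncommuting gen_mem)
open Cfsg.Agent.Fischer.Fi22PtsRep (gen)

/-- the transpositions of the points do not commute -/
def nc (p q : Fin 3510) : Prop := (row p).testBit q = true

theorem nc_aut {σ : Equiv.Perm (Fin 3510)} (hσ : σ ∈ Aut 3510 row) (p q : Fin 3510) : nc (σ p) (σ q) ↔ nc p q := by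
  unfold nc
  rw [hσ p q]

theorem rho_mem (m : Spor.Fi22) : rho m ∈ Aut 3510 row := N_le_Aut ⟨m, rfl⟩

/-- `t` is the transposition of the point `p` -/
def Rel (t : Spor.Fi22) (p : Fin 3510) : Prop := ∀ q : Fin 3510, nc p q ↔ rho t q ≠ q

theorem Rel.conj {t : Spor.Fi22} {p : Fin 3510} (h : Rel t p) (m : Spor.Fi22) : Rel (m * t * m⁻¹) (rho m p) := by
  intro q
  obtain ⟨q, rfl⟩ := (rho m).surjective q
  rw [nc_aut (rho_mem m), h q, map_mul, map_mul, map_inv]
  show rho t q ≠ q ↔ rho m (rho t ((rho m)⁻¹ (rho m q))) ≠ rho m q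
  rw [show (rho m)⁻¹ (rho m q) = q from Equiv.symm_apply_apply _ q, (rho m).injective.ne_iff]

/-- the row of `p` is the support of the table `t` -/
noncomputable def chkSup (t p : ℕ) : Bool :=
  force (row p) fun m => allN (fun q => xor (tb m q) (Nat.beq (lk 12 t q) q)) 3510

theorem rel_of_chk {x : ℕ} (hx : x < 9) {p : ℕ} (hp : p < 3510) (h : chkSup (nth FiDat.gens x) p = true) :
    Rel (PresentedGroup.of (FiDat.gn x)) ⟨p, hp⟩ := by
  intro q
  unfold chkSup at h
  rw [force_eq] at h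
  have h1 := (allN_iff _ _).1 h q q.2
  rw [tb_eq] at h1
  have h2 := FiDat.gn_tab hx q
  have h3 : rho (PresentedGroup.of (FiDat.gn x)) q = q ↔ lk 12 (nth FiDat.gens x) q = q := by
    rw [← h2]
    exact Fin.ext_iff
  show (row p).testBit q = true ↔ _
  rw [ne_eq, h3, ← Nat.beq_eq]
  revert h1
  cases (row p).testBit (q : ℕ) <;> cases Nat.beq (lk 12 (nth FiDat.gens x) q) q <;> simp

theorem sup0 : chkSup (nth FiDat.gens 0) 0 = true := by decide +kernel
theorem sup1 : chkSup (nth FiDat.gens 1) 14 = true := by decide +kernel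
theorem sup2 : chkSup (nth FiDat.gens 2) 12 = true := by decide +kernel

/-- the first three points -/
def P0 : Fin 3510 := ⟨0, by norm_num⟩
def P1 : Fin 3510 := ⟨14, by norm_num⟩
def P2 : Fin 3510 := ⟨12, by norm_num⟩

theorem rel0 : Rel (gen .a) P0 := rel_of_chk (by norm_num) _ sup0
theorem rel1 : Rel (gen .b) P1 := rel_of_chk (by norm_num) _ sup1
theorem rel2 : Rel (gen .c) P2 := rel_of_chk (by norm_num) _ sup2

theorem row_chk : and (tb (row 0) 14) (and (not (tb (row 14) 14)) (and (tb (row 12) 10) (not (tb (row 0) 10)))) = true := by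
  decide +kernel

theorem rows : nc P0 P1 ∧ ¬ nc P1 P1 ∧ nc P2 ⟨10, by norm_num⟩ ∧ ¬ nc P0 ⟨10, by norm_num⟩ := by
  have h := row_chk
  simp only [tb_eq, Bool.and_eq_true, Bool.not_eq_true'] at h
  refine ⟨h.1, ?_, h.2.2.1, ?_⟩
  · intro h'
    rw [nc] at h'
    exact absurd (h'.symm.trans h.2.1) (by simp)
  · intro h'
    rw [nc] at h'
    exact absurd (h'.symm.trans h.2.2.2) (by simp)

theorem exists_rel {t : Spor.Fi22} (ht : t ∈ T) : ∃ p, Rel t p := by
  obtain ⟨m, rfl⟩ := isConj_iff.1 (show IsConj (gen .a) t from ht)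
  exact ⟨_, rel0.conj m⟩

/-- the point determines the transposition -/
theorem rel_inj {t t' : Spor.Fi22} (ht : t ∈ T) (ht' : t' ∈ T) {p : Fin 3510} (h : Rel t p) (h' : Rel t' p) : t = t' := by
  by_contra hne
  by_cases hc : Commute t t'
  · obtain ⟨k, hk, hk'⟩ := trans_commuting t ht t' ht' (gen .a) (gen_mem .a) (gen .c) (gen_mem .c) hne (fun h0 => by
      have h1 := (rel2 ⟨10, by norm_num⟩).1 rows.2.2.1
      rw [← h0] at h1
      exact rows.2.2.2 ((rel0 _).2 h1)) hc (Cfsg.Agent.Fischer.Fi22PtsRep.gen_comm (by decide))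
    have h1 := h.conj k
    have h2 := h'.conj k
    rw [hk] at h1
    rw [hk'] at h2
    exact rows.2.2.2 ((rel0 _).2 ((h1 _).1 ((h2 _).2 ((rel2 ⟨10, by norm_num⟩).1 rows.2.2.1))))
  · obtain ⟨k, hk, hk'⟩ := trans_noncommuting t ht t' ht' (gen .a) (gen_mem .a) (gen .b) (gen_mem .b) hc
      (fun h0 => Cfsg.Agent.Fischer.Fi22Order.ab_ne h0)
    have h1 := h.conj k
    have h2 := h'.conj k
    rw [hk] at h1
    rw [hk'] at h2
    exact rows.2.1 ((rel1 _).2 ((h2 _).1 ((h1 _).2 ((rel0 P1).1 rows.1))))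

/-- every point is the point of a transposition -/
theorem exists_tau (p : Fin 3510) : ∃ t ∈ T, Rel t p := by
  classical
  choose f hf using fun t : T => exists_rel t.2
  have hinj : Function.Injective f := fun t t' h =>
    Subtype.ext (rel_inj t.2 t'.2 (hf t) (by rw [h]; exact hf t'))
  have hfin : Finite T := Finite.of_injective f hinj
  have := Fintype.ofFinite T
  have hcard : Fintype.card T = Fintype.card (Fin 3510) := by
    rw [Fintype.card_fin, ← Nat.card_eq_fintype_card, Nat.card_coe_set_eq]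
    exact ncard_T
  obtain ⟨t, ht⟩ := ((Fintype.bijective_iff_injective_and_card f).2 ⟨hinj, hcard⟩).2 p
  exact ⟨t, t.2, ht ▸ hf t⟩

/-- the transposition of a point -/
noncomputable def tau (p : Fin 3510) : Spor.Fi22 := (exists_tau p).choose

theorem tau_mem (p : Fin 3510) : tau p ∈ T := (exists_tau p).choose_spec.1

theorem tau_rel (p : Fin 3510) : Rel (tau p) p := (exists_tau p).choose_spec.2

theorem nc_iff {p q : Fin 3510} : nc p q ↔ rho (tau p) q ≠ q := tau_rel p q

theorem tau_of_rel {t : Spor.Fi22} (ht : t ∈ T) {p : Fin 3510} (h : Rel t p) : tau p = t :=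
  rel_inj (tau_mem p) ht (tau_rel p) h

theorem tau_conj (m : Spor.Fi22) (p : Fin 3510) : m * tau p * m⁻¹ = tau (rho m p) := by
  refine (tau_of_rel ?_ ((tau_rel p).conj m)).symm
  exact Cfsg.Agent.R08.AutT.tFacts.conj _ _ (tau_mem p)

theorem tau_inj {p q : Fin 3510} (h : tau p = tau q) : p = q := by
  -- the points are counted by the transpositions
  classical
  have hsurj : Function.Surjective (fun p : Fin 3510 => (⟨tau p, tau_mem p⟩ : T)) := by
    rintro ⟨t, ht⟩
    obtain ⟨p, hp⟩ := exists_rel ht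
    exact ⟨p, Subtype.ext (tau_of_rel ht hp)⟩
  have hfin : Finite T := Finite.of_surjective _ hsurj
  have := Fintype.ofFinite T
  have hcard : Fintype.card (Fin 3510) = Fintype.card T := by
    rw [Fintype.card_fin, ← Nat.card_eq_fintype_card, Nat.card_coe_set_eq]
    exact ncard_T.symm
  exact ((Fintype.bijective_iff_surjective_and_card _).2 ⟨hsurj, hcard⟩).1 (Subtype.ext h)

theorem exists_pt {t : Spor.Fi22} (ht : t ∈ T) : ∃ p, tau p = t := by
  obtain ⟨p, hp⟩ := exists_rel ht
  exact ⟨p, tau_of_rel ht hp⟩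

theorem tau_sq (p : Fin 3510) : tau p * tau p = 1 := Cfsg.Agent.R08.AutT.tFacts.sq _ (tau_mem p)

theorem tau_ne (p : Fin 3510) : tau p ≠ 1 := by
  intro h
  obtain ⟨m, hm⟩ := isConj_iff.1 (show IsConj (gen .a) (tau p) from tau_mem p)
  rw [h, conj_eq_one_iff] at hm
  apply Cfsg.Agent.Fischer.Fi22Order.ab_ne
  rw [hm, one_mul, mul_one]

/-- commuting transpositions -/
theorem comm_iff {p q : Fin 3510} : tau p * tau q = tau q * tau p ↔ ¬ nc p q := by
  rw [nc_iff, not_not]
  constructor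
  · intro h
    apply tau_inj
    rw [← tau_conj, h, mul_inv_cancel_right]
  · intro h
    have h1 := tau_conj (tau p) q
    rw [h, mul_inv_eq_iff_eq_mul] at h1
    exact h1

theorem nc_symm {p q : Fin 3510} (h : nc p q) : nc q p := by
  by_contra h'
  exact (comm_iff.1 (comm_iff.2 h').symm) h

theorem nc_irrefl (p : Fin 3510) : ¬ nc p p := comm_iff.1 rfl

/-- `Fi22` is transitive on the points -/
theorem trans_pt (p q : Fin 3510) : ∃ m : Spor.Fi22, rho m p = q := by
  obtain ⟨m, hm⟩ := isConj_iff.1 (show IsConj (gen .a) (tau p) from tau_mem p)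
  obtain ⟨k, hk⟩ := isConj_iff.1 (show IsConj (gen .a) (tau q) from tau_mem q)
  refine ⟨k * m⁻¹, tau_inj ?_⟩
  rw [← tau_conj, ← hm, ← hk]
  group

/-- noncommuting transpositions -/
theorem tau_cube {p q : Fin 3510} (h : nc p q) : (tau p * tau q) ^ 3 = 1 := by
  obtain ⟨⟨-, h3⟩, -, -⟩ := Cfsg.Agent.R01.Fi22Facts.isThreeTranspositionClass_T
  rcases h3 _ (tau_mem p) _ (tau_mem q) with h1 | h1
  · exfalso
    have e1 : (tau p)⁻¹ = tau p := inv_eq_of_mul_eq_one_left (tau_sq p)
    have e2 : (tau q)⁻¹ = tau q := inv_eq_of_mul_eq_one_left (tau_sq q)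
    refine comm_iff.1 ?_ h
    rw [pow_two] at h1
    have := eq_inv_of_mul_eq_one_left h1
    rwa [mul_inv_rev, e1, e2] at this
  · exact h1

end Cfsg.Agent.H895.RG.Fi22
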